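import Mathlib
import Cfsg.Agent.Lib.Helper5.OrthLag1
import Cfsg.Agent.Lib.Helper40.OrthEvenDefs

/-!
# OEV-A1: reflections and totally singular Lagrangians, any characteristic

Char-free version of `Helper5.OrthLag1` (`flip`, `parity`): replace `IsLag` by `IsTSLag`
(`U^⊥ = U` AND `Q = 0` on `U`); the only use of `2 ≠ 0` there is `IsLag.Q_eq_zero`.
(written by helper49 for helper40's OEV server)
-/

set_option autoImplicit false
set_option linter.unusedSectionVars false

namespace Cfsg.Agent.Helper40.OEV.A1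

open Module QuadraticMap Cfsg.Agent.Helper44 Cfsg.Agent.Helper5.OrthLag Cfsg.Agent.Helper40.OrthEven

variable {K : Type*} [Field K] {V : Type*} [AddCommGroup V] [Module K V] {Q : QuadraticForm K V}

/-- a reflection maps totally singular Lagrangians to totally singular Lagrangians -/
theorem map_refl_tslag {U : Submodule K V} (hU : IsTSLag Q U) (v : V) (hv : Q v ≠ 0) :
    IsTSLag Q (U.map (reflLin Q v)) := by
  have hUl : IsLag Q U := hU.1
  refine ⟨hUl.map_refl v hv, ?_⟩
  rintro x ⟨u, hu, rfl⟩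
  rw [Q_reflLin Q v u hv]
  exact hU.2 u hu

/-- a product of reflections maps totally singular Lagrangians to totally singular Lagrangians -/
theorem map_rprod_tslag {W : Submodule K V} (hW : IsTSLag Q W) (l : List V)
    (hl : ∀ z ∈ l, Q z ≠ 0) : IsTSLag Q (W.map (rprod Q l)) := by
  induction l with
  | nil =>
    rw [rprod_nil]
    have : W.map (1 : V →ₗ[K] V) = W := Submodule.map_id W
    rw [this]; exact hW
  | cons v l ih =>
    rw [rprod_cons]
    have : W.map (reflLin Q v * rprod Q l) = (W.map (rprod Q l)).map (reflLin Q v) := by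
      rw [← Submodule.map_comp]; rfl
    rw [this]
    exact map_refl_tslag (ih (fun z hz => hl z (List.mem_cons_of_mem _ hz))) v
      (hl v List.mem_cons_self)

/-- at least one intersection leaves the hyperplane `v^⊥` (char-free `flip_exists`) -/
theorem flip_exists_tslag [FiniteDimensional K V] (hQ : (polarBilin Q).Nondegenerate)
    {U W : Submodule K V} (hU : IsTSLag Q U) (hW : IsTSLag Q W) (v : V) (hv : Q v ≠ 0)
    (h : ∀ x ∈ U ⊓ W, polar Q v x = 0) :
    ∃ y ∈ U ⊓ W.map (reflLin Q v), polar Q v y ≠ 0 := by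
  have hUl : IsLag Q U := hU.1
  have hWl : IsLag Q W := hW.1
  have hv' : v ∈ LinearMap.BilinForm.orthogonal (polarBilin Q) (U ⊓ W) := by
    rw [LinearMap.BilinForm.mem_orthogonal_iff]
    intro n hn
    show polarBilin Q n v = 0
    rw [polarBilin_apply_apply, polar_comm]
    exact h n hn
  rw [orth_inf_eq_sup hQ hUl hWl] at hv'
  obtain ⟨u, hu, w, hw, huw⟩ := Submodule.mem_sup.1 hv'
  have hQu : Q u = 0 := hU.2 u hu
  have hQw : Q w = 0 := hW.2 w hw
  have hQv : Q v = polar Q u w := by
    rw [← huw, QuadraticMap.map_add Q u w, hQu, hQw]; ring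
  have hvw : polar Q v w = polar Q u w := by
    rw [← huw, polar_add_left, hWl.polar_eq_zero hw hw, add_zero]
  have hvu : polar Q v u = polar Q u w := by
    rw [← huw, polar_add_left, hUl.polar_eq_zero hu hu, zero_add, polar_comm]
  refine ⟨u, ⟨hu, ⟨-w, W.neg_mem hw, ?_⟩⟩, ?_⟩
  · rw [map_neg, reflLin_apply, hvw, ← hQv, inv_mul_cancel₀ hv, one_smul, ← huw]
    abel
  · rw [hvu, ← hQv]; exact hv

/-- A reflection changes `dim (U ⊓ W)` by exactly one (`U`, `W` totally singular Lagrangians). -/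
theorem flip_tslag [FiniteDimensional K V] (hQ : (polarBilin Q).Nondegenerate)
    {U W : Submodule K V} (hU : IsTSLag Q U) (hW : IsTSLag Q W) (v : V) (hv : Q v ≠ 0) :
    finrank K ↥(U ⊓ W.map (reflLin Q v)) = finrank K ↥(U ⊓ W) + 1 ∨
      finrank K ↥(U ⊓ W) = finrank K ↥(U ⊓ W.map (reflLin Q v)) + 1 := by
  have hUl : IsLag Q U := hU.1
  have hWl : IsLag Q W := hW.1
  set φ : V →ₗ[K] K := polarBilin Q v with hφ
  have hφa : ∀ x, φ x = polar Q v x := fun x => rfl
  set E : Submodule K V := U ⊓ W ⊓ LinearMap.ker φ with hE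
  have hE' : U ⊓ W.map (reflLin Q v) ⊓ LinearMap.ker φ = E := by
    ext x
    simp only [Submodule.mem_inf, LinearMap.mem_ker, hE, hφa]
    constructor
    · rintro ⟨⟨h1, h2'⟩, h3⟩
      exact ⟨⟨h1, (mem_map_refl_iff_of_polar_eq_zero W v hv x h3).1 h2'⟩, h3⟩
    · rintro ⟨⟨h1, h2'⟩, h3⟩
      exact ⟨⟨h1, (mem_map_refl_iff_of_polar_eq_zero W v hv x h3).2 h2'⟩, h3⟩
  -- general: A ⊓ ker φ has codimension one in A if φ does not vanish on A
  have hgen : ∀ A : Submodule K V, ∀ x ∈ A, φ x ≠ 0 →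
      finrank K ↥A = finrank K ↥(A ⊓ LinearMap.ker φ) + 1 := by
    intro A x hx hφx
    apply finrank_succ_of_extend _ _ inf_le_left x hx
    · intro hmem
      exact hφx (LinearMap.mem_ker.1 hmem.2)
    · intro z hz
      refine ⟨φ z / φ x, ⟨A.sub_mem hz (A.smul_mem _ hx), ?_⟩⟩
      show φ _ = 0
      rw [map_sub, map_smul, smul_eq_mul, div_mul_cancel₀ _ hφx, sub_self]
  have hgen0 : ∀ A : Submodule K V, (∀ x ∈ A, φ x = 0) → A ⊓ LinearMap.ker φ = A := by
    intro A hA
    apply le_antisymm inf_le_left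
    intro x hx
    exact ⟨hx, LinearMap.mem_ker.2 (hA x hx)⟩
  by_cases hcase : ∀ x ∈ U ⊓ W, polar Q v x = 0
  · left
    obtain ⟨y, hy, hy0⟩ := flip_exists_tslag hQ hU hW v hv hcase
    have h1 := hgen _ y hy hy0
    rw [hE'] at h1
    have h2' := hgen0 (U ⊓ W) hcase
    rw [← hE] at h2'
    rw [h1, h2']
  · right
    simp only [not_forall] at hcase
    obtain ⟨x, hx, hx0⟩ := hcase
    have h1 := hgen _ x hx hx0
    rw [← hE] at h1
    have h2' : ∀ y ∈ U ⊓ W.map (reflLin Q v), φ y = 0 := by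
      intro y hy
      rcases flip_not_both hUl hWl v hv hx hy with h | h
      · exact absurd h hx0
      · exact h
    have h3 := hgen0 _ h2'
    rw [hE'] at h3
    rw [h1, h3]

/-- Parity of `dim (U ⊓ g W)` for a product `g` of reflections. -/
theorem parity_tslag [FiniteDimensional K V] (hQ : (polarBilin Q).Nondegenerate)
    {U W : Submodule K V} (hU : IsTSLag Q U) (hW : IsTSLag Q W) (l : List V)
    (hl : ∀ z ∈ l, Q z ≠ 0) :
    (finrank K ↥(U ⊓ W.map (rprod Q l)) + l.length) % 2 = finrank K ↥(U ⊓ W) % 2 := by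
  induction l with
  | nil =>
    rw [rprod_nil]
    have : W.map (1 : V →ₗ[K] V) = W := Submodule.map_id W
    rw [this]; simp
  | cons v l ih =>
    have hl' : ∀ z ∈ l, Q z ≠ 0 := fun z hz => hl z (List.mem_cons_of_mem _ hz)
    have ih' := ih hl'
    rw [rprod_cons]
    have : W.map (reflLin Q v * rprod Q l) = (W.map (rprod Q l)).map (reflLin Q v) := by
      rw [← Submodule.map_comp]; rfl
    rw [this]
    have hf := flip_tslag hQ hU (map_rprod_tslag hW l hl') v (hl v List.mem_cons_self)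
    rw [List.length_cons]
    omega

end Cfsg.Agent.Helper40.OEV.A1
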