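import Mathlib
import Cfsg.Prelude.Def_LieTypeDatum
import Cfsg.Agent.Lib.Helper14.WittQuad
import Cfsg.Agent.Lib.Helper40.OrthEvenDefs

/-!
# OEV-A2: Witt's lemma and totally singular Lagrangians, any characteristic

`Q` with nondegenerate polar form.  All totally singular Lagrangians have half the dimension, the
isometry group is transitive on them (Witt: `Helper14.Witt.witt`; any linear bijection between two
totally singular subspaces is `Q`-preserving), and if one exists they are exactly the maximal
totally singular subspaces.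
-/

set_option autoImplicit false
set_option linter.unusedSectionVars false

namespace Cfsg.Agent.Helper40.OEV.A2

open Module QuadraticMap Cfsg.Agent.Helper40.OrthEven

section General

variable {K : Type*} [Field K] {V : Type*} [AddCommGroup V] [Module K V] {Q : QuadraticForm K V}

theorem two_mul_finrank_tslag [FiniteDimensional K V] (hQ : (polarBilin Q).Nondegenerate)
    {U : Submodule K V} (hU : IsTSLag Q U) : 2 * finrank K ↥U = finrank K V := by
  have h1 := LinearMap.BilinForm.finrank_orthogonal hQ U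
  rw [hU.1] at h1
  have h2 : finrank K ↥U ≤ finrank K V := Submodule.finrank_le U
  omega

/-- a totally singular subspace lies in its own orthogonal -/
private theorem le_orthogonal_of_ts {U : Submodule K V} (hU : ∀ x ∈ U, Q x = 0) :
    U ≤ LinearMap.BilinForm.orthogonal (polarBilin Q) U := by
  intro x hx
  rw [LinearMap.BilinForm.mem_orthogonal_iff]
  intro n hn
  change polarBilin Q n x = 0
  rw [polarBilin_apply_apply, polar, hU _ (U.add_mem hn hx), hU _ hn, hU _ hx]
  simp

/-- a totally singular subspace has at most half the dimension -/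
private theorem two_mul_finrank_le_of_ts [FiniteDimensional K V] (hQ : (polarBilin Q).Nondegenerate)
    {U : Submodule K V} (hU : ∀ x ∈ U, Q x = 0) : 2 * finrank K ↥U ≤ finrank K V := by
  have h1 := LinearMap.BilinForm.finrank_orthogonal hQ U
  have h2 : finrank K ↥U ≤ finrank K V := Submodule.finrank_le U
  have h3 := Submodule.finrank_mono (le_orthogonal_of_ts hU)
  omega

/-- the isometry group is transitive on totally singular Lagrangians -/
theorem exists_isometry_tslag [FiniteDimensional K V] (hQ : (polarBilin Q).Nondegenerate)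
    {U W : Submodule K V} (hU : IsTSLag Q U) (hW : IsTSLag Q W) :
    ∃ g : V ≃ₗ[K] V, (∀ v, Q (g v) = Q v) ∧ U.map (g : V →ₗ[K] V) = W := by
  have hdim : finrank K ↥U = finrank K ↥W := by
    have h1 := two_mul_finrank_tslag hQ hU
    have h2 := two_mul_finrank_tslag hQ hW
    omega
  let φ : U ≃ₗ[K] W := LinearEquiv.ofFinrankEq _ _ hdim
  obtain ⟨g, hg, hgφ⟩ := Cfsg.Agent.Helper14.Witt.witt Q hQ U W φ
    (fun x => by rw [hW.2 _ (φ x).2, hU.2 _ x.2])
  refine ⟨g, hg, ?_⟩
  apply le_antisymm
  · rintro _ ⟨x, hx, rfl⟩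
    have := hgφ ⟨x, hx⟩
    change g x ∈ W
    rw [show g x = (φ ⟨x, hx⟩ : V) from this]
    exact (φ ⟨x, hx⟩).2
  · intro w hw
    refine ⟨(φ.symm ⟨w, hw⟩ : V), (φ.symm ⟨w, hw⟩).2, ?_⟩
    have := hgφ (φ.symm ⟨w, hw⟩)
    change g (φ.symm ⟨w, hw⟩ : V) = w
    rw [this]
    simp

/-- a totally singular subspace containing a totally singular Lagrangian equals it -/
private theorem eq_of_tslag_le {U W : Submodule K V} (hU : IsTSLag Q U)
    (hW : ∀ x ∈ W, Q x = 0) (hUW : U ≤ W) : W = U := by
  apply le_antisymm _ hUW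
  intro w hw
  rw [← hU.1, LinearMap.BilinForm.mem_orthogonal_iff]
  intro n hn
  change polarBilin Q n w = 0
  rw [polarBilin_apply_apply, polar, hW _ (W.add_mem (hUW hn) hw), hW _ (hUW hn), hW _ hw]
  simp

/-- general version of the characterization -/
private theorem isTSLag_of_max [FiniteDimensional K V] (hQ : (polarBilin Q).Nondegenerate)
    {U₀ : Submodule K V} (hU₀ : IsTSLag Q U₀) {U : Submodule K V} (hU : ∀ x ∈ U, Q x = 0)
    (hmax : ∀ W : Submodule K V, (∀ x ∈ W, Q x = 0) → U ≤ W → W = U) : IsTSLag Q U := by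
  have hle : finrank K ↥U ≤ finrank K ↥U₀ := by
    have h1 := two_mul_finrank_le_of_ts hQ hU
    have h2 := two_mul_finrank_tslag hQ hU₀
    omega
  obtain ⟨f, hf⟩ := (finrank_le_iff_exists_linearMap (R := K)).mp hle
  obtain ⟨g, hg, hgf⟩ := Cfsg.Agent.Helper14.Witt.witt_aux Q hQ _ U rfl (U₀.subtype ∘ₗ f)
    (U₀.injective_subtype.comp hf) (fun u => by
      change Q ((f u : V)) = Q (u : V)
      rw [hU₀.2 _ (f u).2, hU _ u.2])
  -- the preimage of `U₀` under `g`
  have hW : ∀ x ∈ U₀.comap (g : V →ₗ[K] V), Q x = 0 := by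
    intro x hx
    rw [← hg x]
    exact hU₀.2 _ hx
  have hUW : U ≤ U₀.comap (g : V →ₗ[K] V) := by
    intro u hu
    change g u ∈ U₀
    have := hgf ⟨u, hu⟩
    change g u = (f ⟨u, hu⟩ : V) at this
    rw [this]
    exact (f ⟨u, hu⟩).2
  have hEq := hmax _ hW hUW
  have hdim : finrank K ↥U = finrank K ↥U₀ := by
    rw [← hEq]
    have h1 := LinearEquiv.finrank_eq (g.submoduleMap (U₀.comap (g : V →ₗ[K] V)))
    rw [h1]
    have h2 : Submodule.map (g : V →ₗ[K] V) (U₀.comap (g : V →ₗ[K] V)) = U₀ :=
      Submodule.map_comap_eq_of_surjective g.surjective U₀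
    exact congrArg (fun S : Submodule K V => finrank K ↥S) h2
  refine ⟨?_, hU⟩
  symm
  apply Submodule.eq_of_le_of_finrank_eq (le_orthogonal_of_ts hU)
  have h1 := LinearMap.BilinForm.finrank_orthogonal hQ U
  have h2 := two_mul_finrank_tslag hQ hU₀
  omega

end General

section Coord

variable {F : Type*} [Field F] {ι : Type} [Fintype ι] [DecidableEq ι]

/-- if a totally singular Lagrangian exists, the maximal totally singular subspaces are exactly
the totally singular Lagrangians -/
theorem isMaxTS_iff_isTSLag (Q : QuadraticForm F (ι → F)) (hQ : (polarBilin Q).Nondegenerate)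
    (hex : ∃ U₀ : Submodule F (ι → F), IsTSLag Q U₀) (U : Submodule F (ι → F)) :
    Cfsg.IsMaxTotallySingular (⇑Q) U ↔ IsTSLag Q U := by
  obtain ⟨U₀, hU₀⟩ := hex
  constructor
  · rintro ⟨hts, hmax⟩
    exact isTSLag_of_max hQ hU₀ hts (fun W hW hUW => hmax W hW hUW)
  · intro hU
    exact ⟨hU.2, fun W hW hUW => eq_of_tslag_le hU hW hUW⟩

end Coord

end Cfsg.Agent.Helper40.OEV.A2
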