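import Mathlib
import Cfsg.Agent.S0786
import Cfsg.Agent.Lib.Helper5.OrthAut2
import Cfsg.Agent.Lib.Helper40.OEV.A1
import Cfsg.Agent.Lib.Helper40.OEV.A2

/-!
# OEV-A3: the class character of the similarity group of a hyperbolic form, any characteristic

`Q` nondegenerate on `ι → F` (`F` finite) with a totally singular Lagrangian.  The similarities that
preserve the two classes of maximal totally singular subspaces (`Cfsg.PreservesSingularClasses`) form
a subgroup of index two of `GO Q`: there is a character `χ : GO Q →* ℤˣ` with kernel the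
class-preserving similarities, `χ = -1` on reflections / orthogonal transvections, and `χ` is
invariant under field automorphisms preserving `Q`.
-/

set_option autoImplicit false
set_option linter.unusedSectionVars false

namespace Cfsg.Agent.Helper40.OEV.A3

open Module QuadraticMap Matrix Cfsg.Agent.Helper5.OrthAut Cfsg.Agent.Helper40.OrthEven

section lin

open Cfsg.Agent.Helper44 Cfsg.Agent.Helper5.OrthLag

variable {K : Type*} [Field K] {V : Type*} [AddCommGroup V] [Module K V] {Q : QuadraticForm K V}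

theorem rprod_append (l₁ l₂ : List V) : rprod Q (l₁ ++ l₂) = rprod Q l₁ * rprod Q l₂ := by
  unfold rprod
  rw [List.map_append, List.prod_append]

theorem rprod_reverse_mul (l : List V) (hl : ∀ z ∈ l, Q z ≠ 0) :
    rprod Q l.reverse * rprod Q l = 1 := by
  induction l with
  | nil => simp [rprod_nil]
  | cons v l ih =>
    rw [List.reverse_cons, rprod_append, rprod_cons, rprod_cons, rprod_nil, mul_one, mul_assoc,
      ← mul_assoc (reflLin Q v), reflLin_mul_self Q v (hl v List.mem_cons_self), one_mul]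
    exact ih (fun z hz => hl z (List.mem_cons_of_mem _ hz))

/-- the image of a totally singular Lagrangian under an invertible similarity -/
theorem tslag_map {U : Submodule K V} (hU : IsTSLag Q U) (f g : V →ₗ[K] V)
    (hfg : ∀ x, f (g x) = x) (c : K) (hc : c ≠ 0) (hf : ∀ x, Q (f x) = c * Q x) :
    IsTSLag Q (U.map f) := by
  refine ⟨?_, ?_⟩
  · have hlag : IsLag Q U := hU.1
    exact hlag.map f g hfg c hc (fun x y => by
      unfold polar
      rw [← map_add, hf, hf, hf]; ring)
  · rintro _ ⟨u, hu, rfl⟩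
    rw [hf, hU.2 u hu, mul_zero]

theorem finrank_inf_map_of_injective (f : V →ₗ[K] V) (hf : Function.Injective f)
    (U W : Submodule K V) :
    finrank K ↥(U.map f ⊓ W.map f) = finrank K ↥(U ⊓ W) := by
  rw [← Submodule.map_inf f hf]
  exact (LinearEquiv.finrank_eq (Submodule.equivMapOfInjective f hf (U ⊓ W))).symm

end lin

section coord

open Cfsg.Agent.Helper44 Cfsg.Agent.Helper5.OrthLag Cfsg.Agent.S0792

variable {F : Type*} [Field F] {ι : Type} [Fintype ι] [DecidableEq ι]

theorem exists_rprod_of_isometry [Fintype F] (Q : QuadraticForm F (ι → F))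
    (hQ : (polarBilin Q).Nondegenerate) (hexc : Fintype.card F ≠ 2 ∨ Fintype.card ι ≠ 4)
    (g : (ι → F) ≃ₗ[F] (ι → F)) (hg : ∀ v, Q (g v) = Q v) :
    ∃ l : List (ι → F), (∀ w ∈ l, Q w ≠ 0) ∧ (g : (ι → F) →ₗ[F] (ι → F)) = rprod Q l := by
  obtain ⟨l, hl, hM⟩ := Cfsg.Agent.S0786.matrix_cd_all Q hQ hexc
    (LinearMap.toMatrix' (g : (ι → F) →ₗ[F] (ι → F))) (fun u => by
      rw [← Matrix.toLin'_apply, Matrix.toLin'_toMatrix']; exact hg u)
  refine ⟨l, hl, ?_⟩
  have h := congrArg Matrix.toLin' hM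
  rw [Matrix.toLin'_toMatrix', toLin'_list_prod, List.map_map] at h
  rw [h]
  unfold rprod
  congr 1
  apply List.map_congr_left
  intro w _
  exact toLin'_refl Q w

/-- three-subspace parity for totally singular Lagrangians -/
theorem three_parity [Fintype F] (Q : QuadraticForm F (ι → F))
    (hQ : (polarBilin Q).Nondegenerate) (hexc : Fintype.card F ≠ 2 ∨ Fintype.card ι ≠ 4)
    {U W X : Submodule F (ι → F)} (hU : IsTSLag Q U) (hW : IsTSLag Q W) (hX : IsTSLag Q X) :
    (finrank F ↥(U ⊓ W) + finrank F ↥(W ⊓ X) + finrank F ↥(X ⊓ U)) % 2 = finrank F ↥U % 2 := by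
  obtain ⟨h, hh, hUW⟩ := A2.exists_isometry_tslag hQ hU hW
  obtain ⟨h', hh', hUX⟩ := A2.exists_isometry_tslag hQ hU hX
  obtain ⟨l, hl, hhl⟩ := exists_rprod_of_isometry Q hQ hexc h hh
  obtain ⟨l', hl', hhl'⟩ := exists_rprod_of_isometry Q hQ hexc h' hh'
  rw [hhl] at hUW
  rw [hhl'] at hUX
  have p1 := A1.parity_tslag hQ hU hU l hl
  have p2 := A1.parity_tslag hQ hU hU l' hl'
  have hl3 : ∀ z ∈ l' ++ l.reverse, Q z ≠ 0 := by
    intro z hz
    rcases List.mem_append.1 hz with hz | hz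
    · exact hl' z hz
    · exact hl z (List.mem_reverse.1 hz)
  have p3 := A1.parity_tslag hQ hW hW (l' ++ l.reverse) hl3
  have hWX : W.map (rprod Q (l' ++ l.reverse)) = X := by
    rw [rprod_append, ← hUW, ← Submodule.map_comp]
    have : (rprod Q l' * rprod Q l.reverse).comp (rprod Q l) = rprod Q l' := by
      show (rprod Q l' * rprod Q l.reverse) * rprod Q l = rprod Q l'
      rw [mul_assoc, rprod_reverse_mul l hl, mul_one]
    rw [this, hUX]
  rw [hWX] at p3
  rw [hUW] at p1
  rw [hUX] at p2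
  rw [inf_idem] at p1 p2 p3
  have e1 := A2.two_mul_finrank_tslag hQ hU
  have e2 := A2.two_mul_finrank_tslag hQ hW
  rw [inf_comm X U]
  rw [List.length_append, List.length_reverse] at p3
  omega

end coord

section go

open Cfsg.Agent.Helper44 Cfsg.Agent.Helper5.OrthLag Cfsg.Agent.S0792

variable {F : Type*} [Field F] {ι : Type} [Fintype ι] [DecidableEq ι]
  (Q : QuadraticForm F (ι → F))

theorem imageSubmodule_mul (A B : Matrix ι ι F) (U : Submodule F (ι → F)) :
    Cfsg.imageSubmodule (A * B) U = Cfsg.imageSubmodule A (Cfsg.imageSubmodule B U) := by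
  unfold Cfsg.imageSubmodule
  rw [Matrix.toLin'_mul, Submodule.map_comp]

theorem imageSubmodule_one (U : Submodule F (ι → F)) :
    Cfsg.imageSubmodule (1 : Matrix ι ι F) U = U := by
  unfold Cfsg.imageSubmodule
  rw [Matrix.toLin'_one]
  exact Submodule.map_id U

theorem gmat_inv_mul (g : ↥(GO Q)) : gmat Q g⁻¹ * gmat Q g = 1 := by
  simp [gmat]

theorem gmat_mul_inv (g : ↥(GO Q)) : gmat Q g * gmat Q g⁻¹ = 1 := by
  simp [gmat]

theorem toLin'_gmat_injective (g : ↥(GO Q)) :
    Function.Injective (Matrix.toLin' (gmat Q g)) := by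
  intro x y hxy
  have h := congrArg (Matrix.toLin' (gmat Q g⁻¹)) hxy
  rw [← LinearMap.comp_apply, ← LinearMap.comp_apply, ← Matrix.toLin'_mul, gmat_inv_mul,
    Matrix.toLin'_one] at h
  exact h

theorem tslag_image (g : ↥(GO Q)) {U : Submodule F (ι → F)} (hU : IsTSLag Q U) :
    IsTSLag Q (Cfsg.imageSubmodule (gmat Q g) U) := by
  unfold Cfsg.imageSubmodule
  refine tslag_map hU (Matrix.toLin' (gmat Q g)) (Matrix.toLin' (gmat Q g⁻¹)) ?_
    (mult Q g : F) (Units.ne_zero _) ?_
  · intro x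
    rw [← LinearMap.comp_apply, ← Matrix.toLin'_mul, gmat_mul_inv, Matrix.toLin'_one]
    rfl
  · intro x
    rw [Matrix.toLin'_apply]
    exact mult_spec Q g x

theorem finrank_inf_image (g : ↥(GO Q)) (U W : Submodule F (ι → F)) :
    finrank F ↥(Cfsg.imageSubmodule (gmat Q g) U ⊓ Cfsg.imageSubmodule (gmat Q g) W) =
      finrank F ↥(U ⊓ W) :=
  finrank_inf_map_of_injective _ (toLin'_gmat_injective Q g) U W

variable [Fintype F] (hQ : (polarBilin Q).Nondegenerate)
  (hexc : Fintype.card F ≠ 2 ∨ Fintype.card ι ≠ 4)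

include hQ hexc in
/-- the parity of `dim (U ⊓ gU)` does not depend on the totally singular Lagrangian `U` -/
theorem par_const (g : ↥(GO Q)) {U U' : Submodule F (ι → F)} (hU : IsTSLag Q U)
    (hU' : IsTSLag Q U') :
    finrank F ↥(U ⊓ Cfsg.imageSubmodule (gmat Q g) U) % 2 =
      finrank F ↥(U' ⊓ Cfsg.imageSubmodule (gmat Q g) U') % 2 := by
  have t1 := three_parity Q hQ hexc hU hU' (tslag_image Q g hU')
  have t2 := three_parity Q hQ hexc hU (tslag_image Q g hU) (tslag_image Q g hU')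
  rw [finrank_inf_image] at t2
  omega

include hQ hexc in
theorem par_mul (g h : ↥(GO Q)) {U : Submodule F (ι → F)} (hU : IsTSLag Q U) :
    (finrank F ↥U + finrank F ↥(U ⊓ Cfsg.imageSubmodule (gmat Q (g * h)) U)) % 2 =
      ((finrank F ↥U + finrank F ↥(U ⊓ Cfsg.imageSubmodule (gmat Q g) U)) +
        (finrank F ↥U + finrank F ↥(U ⊓ Cfsg.imageSubmodule (gmat Q h) U))) % 2 := by
  have hgh : gmat Q (g * h) = gmat Q g * gmat Q h := by simp [gmat]
  rw [hgh, imageSubmodule_mul]
  have t := three_parity Q hQ hexc hU (tslag_image Q g hU)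
    (tslag_image Q g (tslag_image Q h hU))
  rw [finrank_inf_image] at t
  rw [inf_comm _ U] at t
  omega

theorem negOnePow_mod (a : ℕ) : (-1 : ℤˣ) ^ a = (-1) ^ (a % 2) := by
  conv_lhs => rw [← Nat.div_add_mod a 2, pow_add, pow_mul]
  simp

theorem negOnePow_congr {a b : ℕ} (h : a % 2 = b % 2) : (-1 : ℤˣ) ^ a = (-1) ^ b := by
  rw [negOnePow_mod a, h, ← negOnePow_mod]

/-- the class character -/
noncomputable def classChar {U₀ : Submodule F (ι → F)} (hU₀ : IsTSLag Q U₀) : ↥(GO Q) →* ℤˣ where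
  toFun g := (-1) ^ (finrank F ↥U₀ + finrank F ↥(U₀ ⊓ Cfsg.imageSubmodule (gmat Q g) U₀))
  map_one' := by
    have h1 : gmat Q (1 : ↥(GO Q)) = 1 := by simp [gmat]
    rw [h1, imageSubmodule_one, inf_idem, ← two_mul, pow_mul]
    simp
  map_mul' g h := by
    rw [← pow_add]
    exact negOnePow_congr (par_mul Q hQ hexc g h hU₀)

theorem classChar_apply {U₀ : Submodule F (ι → F)} (hU₀ : IsTSLag Q U₀) (g : ↥(GO Q)) :
    classChar Q hQ hexc hU₀ g =
      (-1) ^ (finrank F ↥U₀ + finrank F ↥(U₀ ⊓ Cfsg.imageSubmodule (gmat Q g) U₀)) := rfl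

theorem classChar_eq_one_iff {U₀ : Submodule F (ι → F)} (hU₀ : IsTSLag Q U₀) (g : ↥(GO Q)) :
    classChar Q hQ hexc hU₀ g = 1 ↔
      Even (finrank F ↥U₀ + finrank F ↥(U₀ ⊓ Cfsg.imageSubmodule (gmat Q g) U₀)) := by
  rw [classChar_apply]
  exact neg_one_pow_eq_one_iff_even (by decide)

end go

section sigma

open Cfsg.Agent.Helper44 Cfsg.Agent.Helper5.OrthLag

variable {F : Type*} [Field F] {ι : Type} [Fintype ι] [DecidableEq ι]

/-- the image of a subspace under the semilinear map `v ↦ σ ∘ v` -/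
def sigSub (σ : F ≃+* F) (U : Submodule F (ι → F)) : Submodule F (ι → F) where
  carrier := {v | (fun i => σ.symm (v i)) ∈ U}
  add_mem' := by
    intro a b ha hb
    have h : (fun i => σ.symm ((a + b) i)) = (fun i => σ.symm (a i)) + (fun i => σ.symm (b i)) := by
      ext i; simp
    show (fun i => σ.symm ((a + b) i)) ∈ U
    rw [h]; exact U.add_mem ha hb
  zero_mem' := by
    show (fun i => σ.symm ((0 : ι → F) i)) ∈ U
    have h : (fun i => σ.symm ((0 : ι → F) i)) = 0 := by ext i; simp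
    rw [h]; exact U.zero_mem
  smul_mem' := by
    intro c a ha
    show (fun i => σ.symm ((c • a) i)) ∈ U
    have h : (fun i => σ.symm ((c • a) i)) = σ.symm c • (fun i => σ.symm (a i)) := by
      ext i; simp
    rw [h]; exact U.smul_mem _ ha

theorem mem_sigSub (σ : F ≃+* F) (U : Submodule F (ι → F)) (v : ι → F) :
    v ∈ sigSub σ U ↔ (fun i => σ.symm (v i)) ∈ U := Iff.rfl

theorem sig_mem_sigSub (σ : F ≃+* F) (U : Submodule F (ι → F)) (u : ι → F) :
    (fun i => σ (u i)) ∈ sigSub σ U ↔ u ∈ U := by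
  rw [mem_sigSub]
  have h : (fun i => σ.symm (σ (u i))) = u := by ext i; simp
  rw [h]

theorem sig_symm_sig (σ : F ≃+* F) (x : ι → F) :
    (fun i => σ ((fun j => σ.symm (x j)) i)) = x := by
  ext i; simp

theorem sigSub_inf (σ : F ≃+* F) (U W : Submodule F (ι → F)) :
    sigSub σ (U ⊓ W) = sigSub σ U ⊓ sigSub σ W := by
  ext v
  simp only [mem_sigSub, Submodule.mem_inf]

/-- the additive equivalence `U ≃+ sigSub σ U` -/
def sigEquiv (σ : F ≃+* F) (U : Submodule F (ι → F)) : ↥U ≃+ ↥(sigSub σ U) where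
  toFun u := ⟨fun i => σ (u.1 i), (sig_mem_sigSub σ U u.1).2 u.2⟩
  invFun v := ⟨fun i => σ.symm (v.1 i), v.2⟩
  left_inv u := by
    apply Subtype.ext
    ext i
    simp
  right_inv v := by
    apply Subtype.ext
    ext i
    simp
  map_add' a b := by
    apply Subtype.ext
    ext i
    simp

theorem finrank_sigSub (σ : F ≃+* F) (U : Submodule F (ι → F)) :
    finrank F ↥(sigSub σ U) = finrank F ↥U := by
  have h := rank_eq_of_equiv_equiv (R := F) (R' := F) (M := ↥U) (M₁ := ↥(sigSub σ U))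
    (σ : F → F) (sigEquiv σ U) σ.bijective (by
      intro r m
      apply Subtype.ext
      ext i
      simp [sigEquiv])
  unfold Module.finrank
  rw [h]

theorem polar_sig (Q : QuadraticForm F (ι → F)) (σ : F ≃+* F)
    (hσ : ∀ v : ι → F, Q (fun i => σ (v i)) = σ (Q v)) (a b : ι → F) :
    polar Q (fun i => σ (a i)) (fun i => σ (b i)) = σ (polar Q a b) := by
  unfold polar
  have h : ((fun i => σ (a i)) + fun i => σ (b i)) = fun i => σ ((a + b) i) := by
    ext i; simp
  rw [h, hσ, hσ, hσ]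
  simp

theorem tslag_sigSub (Q : QuadraticForm F (ι → F)) (σ : F ≃+* F)
    (hσ : ∀ v : ι → F, Q (fun i => σ (v i)) = σ (Q v)) {U : Submodule F (ι → F)}
    (hU : IsTSLag Q U) : IsTSLag Q (sigSub σ U) := by
  have hlag : IsLag Q U := hU.1
  refine ⟨?_, ?_⟩
  · ext x
    rw [LinearMap.BilinForm.mem_orthogonal_iff]
    constructor
    · intro h
      rw [mem_sigSub, hlag.mem_iff]
      intro u hu
      have h1 := h (fun i => σ (u i)) ((sig_mem_sigSub σ U u).2 hu)
      change polar Q (fun i => σ (u i)) x = 0 at h1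
      rw [← sig_symm_sig σ x, polar_sig Q σ hσ] at h1
      exact (map_eq_zero_iff σ σ.injective).1 h1
    · intro hx n hn
      show polar Q n x = 0
      rw [← sig_symm_sig σ x, ← sig_symm_sig σ n, polar_sig Q σ hσ,
        hlag.polar_eq_zero hn hx, map_zero]
  · intro x hx
    rw [← sig_symm_sig σ x, hσ, hU.2 _ hx, map_zero]

theorem image_map_sigSub (σ : F ≃+* F) (M : Matrix ι ι F) (U : Submodule F (ι → F)) :
    Cfsg.imageSubmodule (M.map σ) (sigSub σ U) = sigSub σ (Cfsg.imageSubmodule M U) := by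
  have key : ∀ v : ι → F, (M.map σ) *ᵥ (fun i => σ (v i)) = fun i => σ ((M *ᵥ v) i) := by
    intro v
    ext i
    simp [Matrix.mulVec, dotProduct, map_sum, map_mul]
  unfold Cfsg.imageSubmodule
  ext x
  constructor
  · rintro ⟨v, hv, rfl⟩
    rw [mem_sigSub]
    refine ⟨fun i => σ.symm (v i), hv, ?_⟩
    rw [Matrix.toLin'_apply, Matrix.toLin'_apply, ← sig_symm_sig σ v, key]
    ext i
    simp
  · intro hx
    rw [mem_sigSub] at hx
    obtain ⟨u, hu, hux⟩ := hx
    refine ⟨fun i => σ (u i), (sig_mem_sigSub σ U u).2 hu, ?_⟩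
    rw [Matrix.toLin'_apply, key]
    rw [Matrix.toLin'_apply] at hux
    rw [hux]
    exact sig_symm_sig σ x

end sigma

section main

open Cfsg.Agent.Helper44 Cfsg.Agent.Helper5.OrthLag Cfsg.Agent.S0792

variable {F : Type*} [Field F] {ι : Type} [Fintype ι] [DecidableEq ι]

theorem exists_classChar [Fintype F] (Q : QuadraticForm F (ι → F))
    (hQ : (polarBilin Q).Nondegenerate) (hex : ∃ U₀ : Submodule F (ι → F), IsTSLag Q U₀)
    (hexc : Fintype.card F ≠ 2 ∨ Fintype.card ι ≠ 4) :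
    ∃ χ : ↥(GO Q) →* ℤˣ,
      (∀ g : ↥(GO Q), χ g = 1 ↔
        Cfsg.PreservesSingularClasses (⇑Q) ((g : GL ι F) : Matrix ι ι F)) ∧
      (∀ (w : ι → F) (r : ↥(GO Q)), Q w ≠ 0 →
        ((r : GL ι F) : Matrix ι ι F) = Cfsg.reflectionMatrix (⇑Q) w → χ r = -1) ∧
      (∀ σ : F ≃+* F, (∀ v : ι → F, Q (fun i => σ (v i)) = σ (Q v)) →
        ∀ g h : ↥(GO Q), ((h : GL ι F) : Matrix ι ι F) = ((g : GL ι F) : Matrix ι ι F).map σ →
          χ h = χ g) := by
  obtain ⟨U₀, hU₀⟩ := hex
  have hm : ∀ {U : Submodule F (ι → F)}, IsTSLag Q U → finrank F ↥U = finrank F ↥U₀ := by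
    intro U hU
    have e1 := A2.two_mul_finrank_tslag hQ hU
    have e2 := A2.two_mul_finrank_tslag hQ hU₀
    omega
  refine ⟨classChar Q hQ hexc hU₀, ?_, ?_, ?_⟩
  · intro g
    rw [classChar_eq_one_iff]
    constructor
    · intro hev U hUmax
      have hU : IsTSLag Q U := (A2.isMaxTS_iff_isTSLag Q hQ ⟨U₀, hU₀⟩ U).1 hUmax
      have hc := par_const Q hQ hexc g hU₀ hU
      have hle : finrank F ↥(U ⊓ Cfsg.imageSubmodule (gmat Q g) U) ≤ finrank F ↥U :=
        Submodule.finrank_mono inf_le_left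
      have hmU := hm hU
      unfold Cfsg.SameParityClass
      rw [Nat.even_iff] at hev ⊢
      change (finrank F ↥U - finrank F ↥(U ⊓ Cfsg.imageSubmodule (gmat Q g) U)) % 2 = 0
      omega
    · intro hpres
      have hUmax := (A2.isMaxTS_iff_isTSLag Q hQ ⟨U₀, hU₀⟩ U₀).2 hU₀
      have h1 := hpres U₀ hUmax
      unfold Cfsg.SameParityClass at h1
      have hle : finrank F ↥(U₀ ⊓ Cfsg.imageSubmodule (gmat Q g) U₀) ≤ finrank F ↥U₀ :=
        Submodule.finrank_mono inf_le_left
      rw [Nat.even_iff] at h1 ⊢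
      change (finrank F ↥U₀ - finrank F ↥(U₀ ⊓ Cfsg.imageSubmodule (gmat Q g) U₀)) % 2 = 0 at h1
      omega
  · intro w r hw hr
    rw [classChar_apply]
    have himg : Cfsg.imageSubmodule (gmat Q r) U₀ = U₀.map (reflLin Q w) := by
      unfold Cfsg.imageSubmodule
      rw [show gmat Q r = Cfsg.reflectionMatrix (⇑Q) w from hr, toLin'_refl]
    rw [himg]
    have hf := A1.flip_tslag hQ hU₀ hU₀ w hw
    rw [inf_idem] at hf
    have hle : finrank F ↥(U₀ ⊓ U₀.map (reflLin Q w)) ≤ finrank F ↥U₀ :=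
      Submodule.finrank_mono inf_le_left
    apply Odd.neg_one_pow
    rw [Nat.odd_iff]
    omega
  · intro σ hσ g h hgh
    rw [classChar_apply, classChar_apply]
    apply negOnePow_congr
    have hS := tslag_sigSub Q σ hσ hU₀
    have hc := par_const Q hQ hexc h hU₀ hS
    have e : finrank F ↥(sigSub σ U₀ ⊓ Cfsg.imageSubmodule (gmat Q h) (sigSub σ U₀)) =
        finrank F ↥(U₀ ⊓ Cfsg.imageSubmodule (gmat Q g) U₀) := by
      rw [show gmat Q h = (gmat Q g).map σ from hgh, image_map_sigSub, ← sigSub_inf,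
        finrank_sigSub]
    omega

end main

end Cfsg.Agent.Helper40.OEV.A3
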