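import Mathlib
import Cfsg.Agent.Lib.Helper43.QuadWitt
import Cfsg.Agent.Lib.Helper43.OrthCard
import Cfsg.Agent.Lib.Helper40.OrthEvenDefs

/-!
# OEV-C1: even-dimensional forms over a finite field are of plus or minus type; plus type is unique

`hyp_or_nonhyp`: `Helper43.witt_decomp_finite` (anisotropic part of dimension `≤ 2`, even, so `0` or
`2`; `mem_orthogonal_hypSpan_iff`).  `similar_of_hyp`: the two hyperbolic families are bases
(`IsHypFamily.linearIndependent` + cardinality); the matrix `P` mapping the second to the first has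
`Q₁ (P v) = Q₂ v` (`Helper43.quadraticForm_ext_of_span`), `c = 1`.
-/

set_option autoImplicit false
set_option linter.unusedSectionVars false

namespace Cfsg.Agent.Helper40.OEV.C1

open Module QuadraticMap Matrix Cfsg.Agent.Helper43 Cfsg.Agent.Helper40.OrthEven

variable {K : Type*} [Field K] {ι : Type} [Fintype ι] [DecidableEq ι]

theorem hyp_or_nonhyp [Finite K] (Q : QuadraticForm K (ι → K))
    (hQ : (polarBilin Q).Nondegenerate) (heven : Even (Fintype.card ι)) :
    IsHypForm Q ∨ IsNonHypForm Q := by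
  obtain ⟨k, e, f, hfam, haniso, -, hdim, hle, -⟩ := witt_decomp_finite Q hQ
  rw [Module.finrank_fintype_fun_eq_card] at hdim
  obtain ⟨m, hm⟩ := heven
  have h02 : finrank K (LinearMap.BilinForm.orthogonal (polarBilin Q) (hypSpan (F := K) e f)) = 0 ∨
      finrank K (LinearMap.BilinForm.orthogonal (polarBilin Q) (hypSpan (F := K) e f)) = 2 := by
    omega
  rcases h02 with h0 | h2
  · left
    exact ⟨k, e, f, hfam, by omega⟩
  · right
    refine ⟨k, e, f, hfam, by omega, ?_⟩
    intro v hve hvf hv0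
    exact haniso v ((mem_orthogonal_hypSpan_iff Q e f v).mpr ⟨hve, hvf⟩) hv0

theorem similar_of_hyp (Q₁ Q₂ : QuadraticForm K (ι → K)) (h₁ : IsHypForm Q₁)
    (h₂ : IsHypForm Q₂) : IsSimilarForm Q₁ Q₂ := by
  obtain ⟨k₁, e₁, f₁, hf₁, hk₁⟩ := h₁
  obtain ⟨k₂, e₂, f₂, hf₂, hk₂⟩ := h₂
  obtain rfl : k₁ = k₂ := by omega
  have hcard : Fintype.card (Fin k₁ ⊕ Fin k₁) = finrank K (ι → K) := by
    rw [Module.finrank_fintype_fun_eq_card, Fintype.card_sum, Fintype.card_fin]; omega
  let b₁ : Basis (Fin k₁ ⊕ Fin k₁) K (ι → K) :=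
    Basis.mk hf₁.linearIndependent
      (hf₁.linearIndependent.span_eq_top_of_card_eq_finrank' hcard).ge
  let b₂ : Basis (Fin k₁ ⊕ Fin k₁) K (ι → K) :=
    Basis.mk hf₂.linearIndependent
      (hf₂.linearIndependent.span_eq_top_of_card_eq_finrank' hcard).ge
  have hb₁ : ∀ a, b₁ a = Sum.elim e₁ f₁ a := fun a => by
    simp [b₁]
  have hb₂ : ∀ a, b₂ a = Sum.elim e₂ f₂ a := fun a => by
    simp [b₂]
  let φ : (ι → K) ≃ₗ[K] (ι → K) := b₂.equiv b₁ (Equiv.refl _)
  have hφ : ∀ a, φ (b₂ a) = b₁ a := fun a => by simp [φ]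
  refine ⟨LinearMap.toMatrix' φ.toLinearMap, LinearMap.toMatrix' φ.symm.toLinearMap, 1, ?_, ?_, ?_⟩
  · rw [← LinearMap.toMatrix'_comp]; simp
  · rw [← LinearMap.toMatrix'_comp]; simp
  · intro v
    rw [LinearMap.toMatrix'_mulVec, Units.val_one, one_mul]
    have hQ : Q₁.comp φ.toLinearMap = Q₂ := by
      apply quadraticForm_ext_of_span _ _ (fun a => b₂ a) b₂.span_eq
      · intro a
        rw [QuadraticMap.comp_apply]
        show Q₁ (φ (b₂ a)) = Q₂ (b₂ a)
        rw [hφ, hb₁, hb₂]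
        rcases a with i | i
        · simp [hf₁.qe, hf₂.qe]
        · simp [hf₁.qf, hf₂.qf]
      · intro a b
        have : polar (Q₁.comp φ.toLinearMap) (b₂ a) (b₂ b) = polar Q₁ (φ (b₂ a)) (φ (b₂ b)) := by
          simp [polar, QuadraticMap.comp_apply]
        rw [this, hφ, hφ, hb₁, hb₁, hb₂, hb₂, hf₁.gram, hf₂.gram]
    have := congrArg (fun q => q v) hQ
    simpa [QuadraticMap.comp_apply] using this

end Cfsg.Agent.Helper40.OEV.C1
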