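import Mathlib
import Cfsg.Agent.Lib.Helper43.QuadWitt
import Cfsg.Agent.Lib.Helper43.AnisoPlane
import Cfsg.Agent.Lib.Helper43.OrthCard
import Cfsg.Agent.Lib.Helper40.OrthEvenDefs

/-!
# OEV-C2: two minus-type forms of the same dimension over a finite field are similar (isometric)

The orthogonal complements `W₁`, `W₂` of the hyperbolic families are nondegenerate anisotropic planes.
Pick `z₁, z₂ ∈ W₂` with `Q₂ z₁ = 1` (`Helper43.exists_eq_one`, `exists_indep_partner`); then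
`(a, b) := (polar Q₂ z₁ z₂, Q₂ z₂)` is an `AnisoPair`, and `Helper43.card_aniso_frames` (count
`2 (q + 1) > 0`) gives `y₁, y₂ ∈ W₁` with the same Gram data `(1, a, b)`.  Map `e²ᵢ ↦ e¹ᵢ`,
`f²ᵢ ↦ f¹ᵢ`, `zⱼ ↦ yⱼ` and conclude with `Helper43.quadraticForm_ext_of_span` (`c = 1`).
-/

set_option autoImplicit false
set_option linter.unusedSectionVars false

namespace Cfsg.Agent.Helper40.OEV.C2

open Module QuadraticMap Matrix Cfsg.Agent.Helper43 Cfsg.Agent.Helper40.OrthEven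

variable {K : Type*} [Field K] {ι : Type} [Fintype ι] [DecidableEq ι]

/-- the complement of a hyperbolic family of a minus-type form: data -/
private theorem compl_data [Finite K] (Q : QuadraticForm K (ι → K))
    (hQ : (polarBilin Q).Nondegenerate) {k : ℕ} (e f : Fin k → ι → K) (hfam : IsHypFamily Q e f)
    (hk : 2 * k + 2 = Fintype.card ι) :
    (polarBilin (qrestrict Q
      (LinearMap.BilinForm.orthogonal (polarBilin Q) (hypSpan (F := K) e f)))).Nondegenerate ∧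
    finrank K (LinearMap.BilinForm.orthogonal (polarBilin Q) (hypSpan (F := K) e f)) = 2 := by
  obtain ⟨_, hnd, hdim⟩ := orthogonal_props Q hQ (hypSpan (F := K) e f) hfam.disjoint
  refine ⟨hnd, ?_⟩
  rw [hdim, hfam.finrank_hypSpan, Module.finrank_fintype_fun_eq_card]
  omega

theorem similar_of_nonhyp [Finite K] (Q₁ Q₂ : QuadraticForm K (ι → K))
    (hQ₁ : (polarBilin Q₁).Nondegenerate) (hQ₂ : (polarBilin Q₂).Nondegenerate)
    (h₁ : IsNonHypForm Q₁) (h₂ : IsNonHypForm Q₂) : IsSimilarForm Q₁ Q₂ := by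
  classical
  have : Fintype K := Fintype.ofFinite K
  obtain ⟨k, e₁, f₁, hfam₁, hk₁, han₁⟩ := h₁
  obtain ⟨k₂, e₂, f₂, hfam₂, hk₂, han₂⟩ := h₂
  have hkk : k = k₂ := by omega
  subst hkk
  set W₁ := LinearMap.BilinForm.orthogonal (polarBilin Q₁) (hypSpan (F := K) e₁ f₁) with hW₁
  set W₂ := LinearMap.BilinForm.orthogonal (polarBilin Q₂) (hypSpan (F := K) e₂ f₂) with hW₂
  obtain ⟨hnd₁, hdim₁⟩ := compl_data Q₁ hQ₁ e₁ f₁ hfam₁ hk₁
  obtain ⟨hnd₂, hdim₂⟩ := compl_data Q₂ hQ₂ e₂ f₂ hfam₂ hk₂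
  have haniso₁ : ∀ w : ↥W₁, qrestrict Q₁ W₁ w = 0 → w = 0 := by
    rintro ⟨w, hw⟩ hq
    by_contra hne
    have hw' := (mem_orthogonal_hypSpan_iff Q₁ e₁ f₁ w).1 hw
    exact han₁ w hw'.1 hw'.2 (fun h => hne (Subtype.ext h)) hq
  have haniso₂ : ∀ w : ↥W₂, qrestrict Q₂ W₂ w = 0 → w = 0 := by
    rintro ⟨w, hw⟩ hq
    by_contra hne
    have hw' := (mem_orthogonal_hypSpan_iff Q₂ e₂ f₂ w).1 hw
    exact han₂ w hw'.1 hw'.2 (fun h => hne (Subtype.ext h)) hq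
  -- a frame in `W₂`
  obtain ⟨z₁, hz₁⟩ := exists_eq_one (qrestrict Q₂ W₂) hnd₂ (le_of_eq hdim₂.symm)
  have hz₁0 : z₁ ≠ 0 := by
    rintro rfl
    simp at hz₁
  obtain ⟨z₂, hz₁₂, hind⟩ := exists_indep_partner (qrestrict Q₂ W₂) hnd₂ (le_of_eq hdim₂.symm) z₁ hz₁0
  set b : K := qrestrict Q₂ W₂ z₂ with hb
  have hcomb : ∀ x y : K, qrestrict Q₂ W₂ (x • z₁ + y • z₂) = x ^ 2 + 1 * x * y + b * y ^ 2 := by
    intro x y
    rw [map_add_eq, QuadraticMap.map_smul, QuadraticMap.map_smul, polar_smul_left,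
      polar_smul_right, hz₁, hz₁₂, ← hb]
    simp only [smul_eq_mul]
    ring
  have hpair : AnisoPair (1 : K) b := by
    intro x y hxy
    have h0 := haniso₂ (x • z₁ + y • z₂) (by rw [hcomb]; exact hxy)
    by_cases hy : y = 0
    · subst hy
      rw [zero_smul, add_zero] at h0
      rcases smul_eq_zero.mp h0 with h | h
      · exact ⟨h, rfl⟩
      · exact absurd h hz₁0
    · exfalso
      apply hind (-(y⁻¹ * x))
      have h1 : y • z₂ = -(x • z₁) := eq_neg_of_add_eq_zero_right h0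
      have h2 : z₂ = y⁻¹ • (y • z₂) := by rw [smul_smul, inv_mul_cancel₀ hy, one_smul]
      rw [h2, h1, smul_neg, smul_smul, neg_smul]
  -- a frame in `W₁` with the same Gram data
  have hcard := card_aniso_frames (qrestrict Q₁ W₁) hnd₁ hdim₁ haniso₁ hpair
  have hne : Nonempty {zz : ↥W₁ × ↥W₁ // qrestrict Q₁ W₁ zz.1 = 1 ∧ qrestrict Q₁ W₁ zz.2 = b ∧
      polar (qrestrict Q₁ W₁) zz.1 zz.2 = 1} := by
    by_contra hcon
    rw [not_nonempty_iff] at hcon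
    rw [Nat.card_of_isEmpty] at hcard
    omega
  obtain ⟨⟨⟨y₁, y₂⟩, hy₁, hy₂, hy₁₂⟩⟩ := hne
  simp only at hy₁ hy₂ hy₁₂
  -- the basis of the second space
  let B₂ : (Fin k ⊕ Fin k) ⊕ Fin 2 → (ι → K) :=
    Sum.elim (Sum.elim e₂ f₂) ![(z₁ : ι → K), (z₂ : ι → K)]
  let B₁ : (Fin k ⊕ Fin k) ⊕ Fin 2 → (ι → K) :=
    Sum.elim (Sum.elim e₁ f₁) ![(y₁ : ι → K), (y₂ : ι → K)]
  have hzli : LinearIndependent K ![(z₁ : ι → K), (z₂ : ι → K)] := by
    rw [LinearIndependent.pair_iff]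
    intro s t hst
    have hst' : s • z₁ + t • z₂ = 0 := by
      apply Subtype.ext
      simpa using hst
    by_cases ht : t = 0
    · subst ht
      rw [zero_smul, add_zero] at hst'
      rcases smul_eq_zero.mp hst' with h | h
      · exact ⟨h, rfl⟩
      · exact absurd h hz₁0
    · exfalso
      apply hind (-(t⁻¹ * s))
      have h1 : t • z₂ = -(s • z₁) := eq_neg_of_add_eq_zero_right hst'
      have h2 : z₂ = t⁻¹ • (t • z₂) := by rw [smul_smul, inv_mul_cancel₀ ht, one_smul]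
      rw [h2, h1, smul_neg, smul_smul, neg_smul]
  have hli : LinearIndependent K B₂ := by
    apply LinearIndependent.sum_type hfam₂.linearIndependent hzli
    have hle : Submodule.span K (Set.range ![(z₁ : ι → K), (z₂ : ι → K)]) ≤ W₂ := by
      rw [Submodule.span_le]
      rintro x ⟨i, rfl⟩
      fin_cases i
      · exact z₁.2
      · exact z₂.2
    exact (hfam₂.disjoint).mono_right hle
  have hcardB : Fintype.card ((Fin k ⊕ Fin k) ⊕ Fin 2) = finrank K (ι → K) := by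
    rw [Module.finrank_fintype_fun_eq_card]
    simp
    omega
  let bas : Basis ((Fin k ⊕ Fin k) ⊕ Fin 2) K (ι → K) :=
    basisOfLinearIndependentOfCardEqFinrank hli hcardB
  have hbas : ∀ i, bas i = B₂ i := fun i => by
    simp [bas]
  let P : (ι → K) →ₗ[K] (ι → K) := bas.constr K B₁
  have hP : ∀ i, P (B₂ i) = B₁ i := by
    intro i
    rw [← hbas, Basis.constr_basis]
  -- `Q₁ ∘ P = Q₂`
  have hspan : Submodule.span K (Set.range B₂) = ⊤ := by
    have := bas.span_eq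
    have h2 : Set.range bas = Set.range B₂ := by
      ext x
      constructor
      · rintro ⟨i, rfl⟩; exact ⟨i, (hbas i).symm⟩
      · rintro ⟨i, rfl⟩; exact ⟨i, hbas i⟩
    rw [← h2]; exact this
  -- Gram data
  have hy₁W := (mem_orthogonal_hypSpan_iff Q₁ e₁ f₁ (y₁ : ι → K)).1 y₁.2
  have hy₂W := (mem_orthogonal_hypSpan_iff Q₁ e₁ f₁ (y₂ : ι → K)).1 y₂.2
  have hz₁W := (mem_orthogonal_hypSpan_iff Q₂ e₂ f₂ (z₁ : ι → K)).1 z₁.2
  have hz₂W := (mem_orthogonal_hypSpan_iff Q₂ e₂ f₂ (z₂ : ι → K)).1 z₂.2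
  have hQB : ∀ i, Q₁ (B₁ i) = Q₂ (B₂ i) := by
    rintro ((i | i) | t)
    · show Q₁ (e₁ i) = Q₂ (e₂ i)
      rw [hfam₁.qe, hfam₂.qe]
    · show Q₁ (f₁ i) = Q₂ (f₂ i)
      rw [hfam₁.qf, hfam₂.qf]
    · fin_cases t
      · show Q₁ (y₁ : ι → K) = Q₂ (z₁ : ι → K)
        exact hy₁.trans hz₁.symm
      · show Q₁ (y₂ : ι → K) = Q₂ (z₂ : ι → K)
        exact hy₂
  have hpol1 : ∀ (a : Fin k ⊕ Fin k) (w : ι → K), (∀ i, polar Q₁ (e₁ i) w = 0) →
      (∀ i, polar Q₁ (f₁ i) w = 0) → polar Q₁ (Sum.elim e₁ f₁ a) w = 0 := by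
    rintro (i | i) w h1 h2
    · exact h1 i
    · exact h2 i
  have hpol2 : ∀ (a : Fin k ⊕ Fin k) (w : ι → K), (∀ i, polar Q₂ (e₂ i) w = 0) →
      (∀ i, polar Q₂ (f₂ i) w = 0) → polar Q₂ (Sum.elim e₂ f₂ a) w = 0 := by
    rintro (i | i) w h1 h2
    · exact h1 i
    · exact h2 i
  have hyy : polar Q₁ (y₁ : ι → K) (y₂ : ι → K) = 1 := hy₁₂
  have hzz : polar Q₂ (z₁ : ι → K) (z₂ : ι → K) = 1 := hz₁₂
  have hself : ∀ (Q : QuadraticForm K (ι → K)) (x : ι → K), polar Q x x = 2 * Q x := by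
    intro Q x
    unfold polar
    have : Q (x + x) = 4 * Q x := by
      have : x + x = (2 : K) • x := by rw [two_smul]
      rw [this, QuadraticMap.map_smul, smul_eq_mul]
      ring
    rw [this]; ring
  have hpolB : ∀ i j, polar Q₁ (B₁ i) (B₁ j) = polar Q₂ (B₂ i) (B₂ j) := by
    rintro (a | s) (c | t)
    · show polar Q₁ (Sum.elim e₁ f₁ a) (Sum.elim e₁ f₁ c) =
        polar Q₂ (Sum.elim e₂ f₂ a) (Sum.elim e₂ f₂ c)
      rw [hfam₁.gram, hfam₂.gram]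
    · fin_cases t
      · show polar Q₁ (Sum.elim e₁ f₁ a) (y₁ : ι → K) = polar Q₂ (Sum.elim e₂ f₂ a) (z₁ : ι → K)
        rw [hpol1 a _ hy₁W.1 hy₁W.2, hpol2 a _ hz₁W.1 hz₁W.2]
      · show polar Q₁ (Sum.elim e₁ f₁ a) (y₂ : ι → K) = polar Q₂ (Sum.elim e₂ f₂ a) (z₂ : ι → K)
        rw [hpol1 a _ hy₂W.1 hy₂W.2, hpol2 a _ hz₂W.1 hz₂W.2]
    · fin_cases s
      · show polar Q₁ (y₁ : ι → K) (Sum.elim e₁ f₁ c) = polar Q₂ (z₁ : ι → K) (Sum.elim e₂ f₂ c)
        rw [polar_comm, polar_comm Q₂, hpol1 c _ hy₁W.1 hy₁W.2, hpol2 c _ hz₁W.1 hz₁W.2]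
      · show polar Q₁ (y₂ : ι → K) (Sum.elim e₁ f₁ c) = polar Q₂ (z₂ : ι → K) (Sum.elim e₂ f₂ c)
        rw [polar_comm, polar_comm Q₂, hpol1 c _ hy₂W.1 hy₂W.2, hpol2 c _ hz₂W.1 hz₂W.2]
    · fin_cases s <;> fin_cases t
      · show polar Q₁ (y₁ : ι → K) (y₁ : ι → K) = polar Q₂ (z₁ : ι → K) (z₁ : ι → K)
        rw [hself, hself]
        congr 1
        exact hy₁.trans hz₁.symm
      · show polar Q₁ (y₁ : ι → K) (y₂ : ι → K) = polar Q₂ (z₁ : ι → K) (z₂ : ι → K)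
        rw [hyy, hzz]
      · show polar Q₁ (y₂ : ι → K) (y₁ : ι → K) = polar Q₂ (z₂ : ι → K) (z₁ : ι → K)
        rw [polar_comm, polar_comm Q₂, hyy, hzz]
      · show polar Q₁ (y₂ : ι → K) (y₂ : ι → K) = polar Q₂ (z₂ : ι → K) (z₂ : ι → K)
        rw [hself, hself]
        congr 1
  have hcomp : Q₁.comp P = Q₂ := by
    apply quadraticForm_ext_of_span (Q₁.comp P) Q₂ B₂ hspan
    · intro i
      show Q₁ (P (B₂ i)) = Q₂ (B₂ i)
      rw [hP, hQB]
    · intro i j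
      show Q₁ (P (B₂ i + B₂ j)) - Q₁ (P (B₂ i)) - Q₁ (P (B₂ j)) = polar Q₂ (B₂ i) (B₂ j)
      rw [map_add, hP, hP, ← hpolB]
      rfl
  have hQP : ∀ v, Q₁ (P v) = Q₂ v := fun v => by
    rw [← hcomp]; rfl
  -- `P` is injective, hence bijective
  have hpolP : ∀ v w, polar Q₁ (P v) (P w) = polar Q₂ v w := by
    intro v w
    unfold polar
    rw [← map_add, hQP, hQP, hQP]
  have hinj : Function.Injective P := by
    rw [← LinearMap.ker_eq_bot, LinearMap.ker_eq_bot']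
    intro v hv
    apply hQ₂.1 v
    intro w
    rw [polarBilin_apply_apply, ← hpolP, hv]
    simp [polar]
  have hsurj : Function.Surjective P := LinearMap.injective_iff_surjective.mp hinj
  let Pe : (ι → K) ≃ₗ[K] (ι → K) := LinearEquiv.ofBijective P ⟨hinj, hsurj⟩
  refine ⟨LinearMap.toMatrix' Pe.toLinearMap, LinearMap.toMatrix' Pe.symm.toLinearMap, 1, ?_, ?_, ?_⟩
  · rw [← LinearMap.toMatrix'_comp]
    simp
  · rw [← LinearMap.toMatrix'_comp]
    simp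
  · intro v
    rw [LinearMap.toMatrix'_mulVec, Units.val_one, one_mul]
    exact hQP v

end Cfsg.Agent.Helper40.OEV.C2
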