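import Mathlib
import Cfsg.Agent.Lib.Helper43.QuadWitt
import Cfsg.Agent.Lib.Helper14.WittQuad
import Cfsg.Agent.Lib.Helper40.OrthEvenDefs

/-!
# OEV-C3: a minus-type form is not of plus type (invariance of the Witt index), any field

`(e, f)` of size `k` with anisotropic complement, `(e', f')` hyperbolic of size `k + 1`.  The map
`span (e, f) → span (e'₀…, f'₀…)` (first `k` pairs) is `Q`-preserving; extend it to an isometry `g` of
the whole space (`Helper14.Witt.witt`).  Then `g⁻¹ e'ₖ` is a nonzero singular vector orthogonal to all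
`eᵢ, fᵢ`: contradiction.
-/

set_option autoImplicit false
set_option linter.unusedSectionVars false

namespace Cfsg.Agent.Helper40.OEV.C3

open Module QuadraticMap Matrix Cfsg.Agent.Helper43 Cfsg.Agent.Helper40.OrthEven

variable {K : Type*} [Field K] {ι : Type} [Fintype ι] [DecidableEq ι]

/-- two families with the same Gram data have the same `Q`-values on linear combinations -/
private theorem gram_sum {V : Type*} [AddCommGroup V] [Module K V] (Q : QuadraticForm K V)
    {α : Type*} (s : Finset α) (c : α → K) (v w : α → V)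
    (hQ : ∀ a, Q (v a) = Q (w a)) (hP : ∀ a b, polar Q (v a) (v b) = polar Q (w a) (w b)) :
    Q (∑ a ∈ s, c a • v a) = Q (∑ a ∈ s, c a • w a) := by
  classical
  induction s using Finset.induction_on with
  | empty => simp
  | insert a s ha ih =>
    rw [Finset.sum_insert ha, Finset.sum_insert ha]
    have h1 : ∀ (x y : V), Q (x + y) = Q x + Q y + polar Q x y := by
      intro x y; unfold polar; ring
    rw [h1, h1, ih, QuadraticMap.map_smul, QuadraticMap.map_smul, hQ]
    congr 1
    have h2 : ∀ (u : α → V), polar Q (c a • u a) (∑ b ∈ s, c b • u b)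
        = ∑ b ∈ s, c a * (c b * polar Q (u a) (u b)) := by
      intro u
      have : polar Q (c a • u a) (∑ b ∈ s, c b • u b)
          = polarBilin Q (c a • u a) (∑ b ∈ s, c b • u b) := rfl
      rw [this, map_sum]
      apply Finset.sum_congr rfl
      intro b _
      rw [map_smul, map_smul, LinearMap.smul_apply, smul_eq_mul, smul_eq_mul]
      have : (polarBilin Q) (u a) (u b) = polar Q (u a) (u b) := rfl
      rw [this]; ring
    rw [h2 v, h2 w]
    apply Finset.sum_congr rfl
    intro b _
    rw [hP]

private theorem polar_isom {V : Type*} [AddCommGroup V] [Module K V] (Q : QuadraticForm K V)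
    (g : V ≃ₗ[K] V) (hg : ∀ v, Q (g v) = Q v) (x y : V) : polar Q (g x) (g y) = polar Q x y := by
  unfold polar
  rw [← map_add, hg, hg, hg]

theorem not_hyp_of_nonhyp (Q : QuadraticForm K (ι → K)) (hQ : (polarBilin Q).Nondegenerate)
    (h : IsNonHypForm Q) : ¬ IsHypForm Q := by
  classical
  rintro ⟨k', e', f', h', hk'⟩
  obtain ⟨k, e, f, hef, hk, haniso⟩ := h
  have hkk : k' = k + 1 := by omega
  subst hkk
  -- the restricted family
  set w : Fin k ⊕ Fin k → (ι → K) :=
    Sum.elim (fun i => e' (Fin.castSucc i)) (fun i => f' (Fin.castSucc i)) with hw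
  set v : Fin k ⊕ Fin k → (ι → K) := Sum.elim e f with hv
  have hw_hyp : IsHypFamily Q (fun i => e' (Fin.castSucc i)) (fun i => f' (Fin.castSucc i)) :=
    { qe := fun i => h'.qe _
      qf := fun i => h'.qf _
      ef := fun i j => by
        rw [h'.ef]
        simp only [Fin.castSucc_inj]
      ee := fun i j => h'.ee _ _
      ff := fun i j => h'.ff _ _ }
  have hwli : LinearIndependent K w := hw_hyp.linearIndependent
  have hvli : LinearIndependent K v := hef.linearIndependent
  have hQvw : ∀ a, Q (v a) = Q (w a) := by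
    rintro (i | i)
    · simp [hv, hw, hef.qe, h'.qe]
    · simp [hv, hw, hef.qf, h'.qf]
  have hPvw : ∀ a b, polar Q (v a) (v b) = polar Q (w a) (w b) := by
    intro a b
    rw [hv, hw, hef.gram, hw_hyp.gram]
  -- basis of the span and the map
  set U : Submodule K (ι → K) := Submodule.span K (Set.range v) with hU
  set b : Basis (Fin k ⊕ Fin k) K U := Basis.span hvli with hb
  have hbv : ∀ a, ((b a : U) : ι → K) = v a := by
    intro a
    rw [hb, Basis.span_apply]
  set φ : U →ₗ[K] (ι → K) := b.constr K w with hφ
  have hφapply : ∀ u : U, φ u = ∑ a, b.repr u a • w a := by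
    intro u
    rw [hφ, Basis.constr_apply_fintype]
    rfl
  have hu_sum : ∀ u : U, (u : ι → K) = ∑ a, b.repr u a • v a := by
    intro u
    have := congrArg (Subtype.val) (b.sum_repr u)
    rw [← this]
    simp only [Submodule.coe_sum, Submodule.coe_smul, hbv]
  have hφQ : ∀ u : U, Q (φ u) = Q (u : ι → K) := by
    intro u
    rw [hφapply, hu_sum u]
    exact (gram_sum Q Finset.univ (fun a => b.repr u a) v w hQvw hPvw).symm
  have hφinj : Function.Injective φ := by
    rw [← LinearMap.ker_eq_bot, LinearMap.ker_eq_bot']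
    intro u hu
    rw [hφapply] at hu
    have hc := (Fintype.linearIndependent_iff.mp hwli) (fun a => b.repr u a) hu
    apply b.repr.injective
    ext a
    simp [hc a]
  obtain ⟨g, hgQ, hg⟩ := Cfsg.Agent.Helper14.Witt.witt_aux Q hQ _ U rfl φ hφinj hφQ
  have hgv : ∀ a, g (v a) = w a := by
    intro a
    have h1 := hg (b a)
    rw [hbv] at h1
    rw [h1, hφ, Basis.constr_basis]
  -- the extra singular vector
  set z : ι → K := g.symm (e' (Fin.last k)) with hz
  have hgz : g z = e' (Fin.last k) := by rw [hz, LinearEquiv.apply_symm_apply]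
  have hQz : Q z = 0 := by
    rw [← hgQ z, hgz, h'.qe]
  have hz0 : z ≠ 0 := by
    intro h0
    have h1 : e' (Fin.last k) = 0 := by rw [← hgz, h0, map_zero]
    have h2 := h'.ef (Fin.last k) (Fin.last k)
    rw [h1] at h2
    simp [polar] at h2
  have he : ∀ i, polar Q (e i) z = 0 := by
    intro i
    rw [← polar_isom Q g hgQ, hgz]
    have := hgv (Sum.inl i)
    simp only [hv, hw, Sum.elim_inl] at this
    rw [this, h'.ee]
  have hf : ∀ i, polar Q (f i) z = 0 := by
    intro i
    rw [← polar_isom Q g hgQ, hgz]
    have := hgv (Sum.inr i)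
    simp only [hv, hw, Sum.elim_inr] at this
    rw [this, polar_comm, h'.ef]
    have : Fin.last k ≠ Fin.castSucc i := (Fin.castSucc_lt_last i).ne'
    simp [this]
  exact haniso z he hf hz0 hQz

end Cfsg.Agent.Helper40.OEV.C3
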