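import Mathlib
import Cfsg.Agent.Lib.Helper43.QuadWitt
import Cfsg.Agent.Lib.Helper40.OrthEvenDefs

/-!
# OEV-C4: base change of plus / minus type forms

`Q` over `F` is the base change of `Q₀` over `K` (they agree on `K`-rational vectors).  Plus type
stays plus type; minus type stays minus type when `[F : K]` is odd (the anisotropic binary form
`Q₀ (x w₁ + y w₂)` on the complement stays anisotropic: a root in `F` of the irreducible quadratic
would generate a subextension of degree two).
-/

set_option autoImplicit false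
set_option linter.unusedSectionVars false

namespace Cfsg.Agent.Helper40.OEV.C4

open Module QuadraticMap Matrix Cfsg.Agent.Helper43 Cfsg.Agent.Helper40.OrthEven

variable {K : Type*} [Field K] {F : Type*} [Field F] {ι : Type} [Fintype ι] [DecidableEq ι]

section Aux

variable [Algebra K F]

/-- an anisotropic binary quadratic form stays anisotropic over an extension of odd degree -/
theorem helper64_binary_aniso_odd (hodd : Odd (Module.finrank K F)) (a b c : K)
    (h : ∀ x y : K, a * x ^ 2 + b * x * y + c * y ^ 2 = 0 → x = 0 ∧ y = 0)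
    (x y : F)
    (hxy : algebraMap K F a * x ^ 2 + algebraMap K F b * x * y + algebraMap K F c * y ^ 2 = 0) :
    x = 0 ∧ y = 0 := by
  have hfin : FiniteDimensional K F := by
    apply Module.finite_of_finrank_pos
    rcases hodd with ⟨m, hm⟩
    omega
  have hinj : Function.Injective (algebraMap K F) := (algebraMap K F).injective
  have ha : a ≠ 0 := by
    intro ha
    have := h 1 0 (by rw [ha]; ring)
    exact one_ne_zero this.1
  have ha' : algebraMap K F a ≠ 0 := by
    intro h0
    apply ha
    apply hinj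
    rw [h0, map_zero]
  by_cases hy : y = 0
  · subst hy
    refine ⟨?_, rfl⟩
    have h1 : algebraMap K F a * x ^ 2 = 0 := by
      have : algebraMap K F a * x ^ 2 + algebraMap K F b * x * 0 + algebraMap K F c * 0 ^ 2
          = algebraMap K F a * x ^ 2 := by ring
      rw [← this]; exact hxy
    rcases mul_eq_zero.1 h1 with h2 | h2
    · exact absurd h2 ha'
    · exact pow_eq_zero_iff (two_ne_zero) |>.1 h2
  · exfalso
    set t : F := x / y with ht
    have hx : x = t * y := by rw [ht]; field_simp
    have heq : algebraMap K F a * t ^ 2 + algebraMap K F b * t + algebraMap K F c = 0 := by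
      have h1 : (algebraMap K F a * t ^ 2 + algebraMap K F b * t + algebraMap K F c) * y ^ 2 = 0 := by
        rw [← hxy, hx]; ring
      rcases mul_eq_zero.1 h1 with h2 | h2
      · exact h2
      · exact absurd (pow_eq_zero_iff (two_ne_zero) |>.1 h2) hy
    set g : Polynomial K := Polynomial.C a * Polynomial.X ^ 2 + Polynomial.C b * Polynomial.X
      + Polynomial.C c with hg
    have hgdeg : g.natDegree = 2 := Polynomial.natDegree_quadratic ha
    have hg0 : g ≠ 0 := by
      intro h0
      rw [h0, Polynomial.natDegree_zero] at hgdeg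
      omega
    have haev : Polynomial.aeval t g = 0 := by
      rw [hg]
      simp only [map_add, map_mul, map_pow, Polynomial.aeval_C, Polynomial.aeval_X]
      exact heq
    have hint : IsIntegral K t := Algebra.IsIntegral.isIntegral t
    have hdvd : minpoly K t ∣ g := minpoly.dvd K t haev
    have hle : (minpoly K t).natDegree ≤ 2 := by
      rw [← hgdeg]
      exact Polynomial.natDegree_le_of_dvd hdvd hg0
    have hpos : 0 < (minpoly K t).natDegree := minpoly.natDegree_pos hint
    have hdiv : (minpoly K t).natDegree ∣ Module.finrank K F := minpoly.degree_dvd hint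
    have h1 : (minpoly K t).natDegree = 1 := by
      rcases Nat.lt_or_ge (minpoly K t).natDegree 2 with h2 | h2
      · omega
      · have h3 : (minpoly K t).natDegree = 2 := le_antisymm hle h2
        rw [h3] at hdiv
        rcases hodd with ⟨m, hm⟩
        rcases hdiv with ⟨m', hm'⟩
        omega
    rw [minpoly.natDegree_eq_one_iff] at h1
    obtain ⟨t₀, ht₀⟩ := h1
    have h2 : a * t₀ ^ 2 + b * t₀ * 1 + c * 1 ^ 2 = 0 := by
      apply hinj
      rw [map_zero, ← heq, ← ht₀]
      simp only [map_add, map_mul, map_pow, map_one]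
      ring
    exact one_ne_zero (h t₀ 1 h2).2

/-- the base change map on vectors -/
noncomputable def helper64_mapL : (ι → K) →ₗ[K] (ι → F) := (Algebra.linearMap K F).compLeft ι

theorem helper64_mapL_apply (v : ι → K) :
    helper64_mapL (K := K) (F := F) v = fun i => algebraMap K F (v i) := rfl

variable (Q₀ : QuadraticForm K (ι → K)) (Q : QuadraticForm F (ι → F))
  (hB : ∀ v : ι → K, Q (fun i => algebraMap K F (v i)) = algebraMap K F (Q₀ v))

include hB in
theorem helper64_Q_map (v : ι → K) : Q (helper64_mapL v) = algebraMap K F (Q₀ v) := by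
  rw [helper64_mapL_apply]; exact hB v

include hB in
theorem helper64_polar_map (u v : ι → K) :
    polar Q (helper64_mapL u) (helper64_mapL v) = algebraMap K F (polar Q₀ u v) := by
  unfold polar
  rw [← map_add, helper64_Q_map Q₀ Q hB, helper64_Q_map Q₀ Q hB, helper64_Q_map Q₀ Q hB,
    map_sub, map_sub]

include hB in
theorem helper64_isHypFamily_map {k : ℕ} {e f : Fin k → ι → K} (h : IsHypFamily Q₀ e f) :
    IsHypFamily Q (fun i => helper64_mapL (K := K) (F := F) (e i))
      (fun i => helper64_mapL (K := K) (F := F) (f i)) := by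
  refine ⟨fun i => ?_, fun i => ?_, fun i j => ?_, fun i j => ?_, fun i j => ?_⟩
  · rw [helper64_Q_map Q₀ Q hB, h.qe, map_zero]
  · rw [helper64_Q_map Q₀ Q hB, h.qf, map_zero]
  · rw [helper64_polar_map Q₀ Q hB, h.ef]
    split_ifs <;> simp
  · rw [helper64_polar_map Q₀ Q hB, h.ee, map_zero]
  · rw [helper64_polar_map Q₀ Q hB, h.ff, map_zero]

end Aux

theorem hyp_bc (emb : K →+* F) (Q₀ : QuadraticForm K (ι → K)) (Q : QuadraticForm F (ι → F))
    (hB : ∀ v : ι → K, Q (fun i => emb (v i)) = emb (Q₀ v)) (h : IsHypForm Q₀) : IsHypForm Q := by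
  letI : Algebra K F := emb.toAlgebra
  obtain ⟨k, e, f, hef, hk⟩ := h
  exact ⟨k, _, _, helper64_isHypFamily_map Q₀ Q hB hef, hk⟩

theorem nonhyp_bc_odd [Algebra K F] (hodd : Odd (Module.finrank K F))
    (Q₀ : QuadraticForm K (ι → K)) (Q : QuadraticForm F (ι → F))
    (hB : ∀ v : ι → K, Q (fun i => algebraMap K F (v i)) = algebraMap K F (Q₀ v))
    (hQ₀ : (polarBilin Q₀).Nondegenerate) (h : IsNonHypForm Q₀) : IsNonHypForm Q := by
  classical
  obtain ⟨k, e, f, hef, hk, han⟩ := h
  have hef' := helper64_isHypFamily_map Q₀ Q hB hef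
  refine ⟨k, _, _, hef', hk, ?_⟩
  intro v hve hvf hv0 hQv
  -- the complement over `K`
  set H₀ : Submodule K (ι → K) := hypSpan (F := K) e f with hH₀
  set W₀ : Submodule K (ι → K) := LinearMap.BilinForm.orthogonal (polarBilin Q₀) H₀ with hW₀
  have hdimH : finrank K H₀ = 2 * k := hef.finrank_hypSpan
  have hdimV : finrank K (ι → K) = 2 * k + 2 := by rw [Module.finrank_pi, hk]
  have hdimW : finrank K W₀ = 2 := by
    rw [hW₀, LinearMap.BilinForm.finrank_orthogonal hQ₀, hdimH, hdimV]; omega
  have htop : H₀ ⊔ W₀ = ⊤ :=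
    Submodule.eq_top_of_disjoint H₀ W₀ (by rw [hdimH, hdimW, hdimV]) hef.disjoint
  let bs : Basis (Fin 2) K W₀ := Module.finBasisOfFinrankEq K W₀ hdimW
  set w₁ : ι → K := (bs 0 : ι → K) with hw₁
  set w₂ : ι → K := (bs 1 : ι → K) with hw₂
  have hw₁W : w₁ ∈ W₀ := (bs 0).2
  have hw₂W : w₂ ∈ W₀ := (bs 1).2
  have hWmem : ∀ w ∈ W₀, ∃ α β : K, w = α • w₁ + β • w₂ := by
    intro w hw
    refine ⟨bs.repr ⟨w, hw⟩ 0, bs.repr ⟨w, hw⟩ 1, ?_⟩
    have h1 := bs.sum_repr ⟨w, hw⟩
    rw [Fin.sum_univ_two] at h1
    have h2 := congrArg (Subtype.val) h1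
    simp only [Submodule.coe_add, Submodule.coe_smul] at h2
    exact h2.symm
  have hindep : ∀ α β : K, α • w₁ + β • w₂ = 0 → α = 0 ∧ β = 0 := by
    intro α β h0
    have h1 : α • bs 0 + β • bs 1 = 0 := by
      apply Subtype.ext
      simp only [Submodule.coe_add, Submodule.coe_smul, Submodule.coe_zero]
      exact h0
    have h2 := bs.linearIndependent
    rw [Fintype.linearIndependent_iff] at h2
    have h3 := h2 ![α, β] (by rw [Fin.sum_univ_two]; simpa using h1)
    exact ⟨by simpa using h3 0, by simpa using h3 1⟩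
  -- membership in `W₀` in terms of the family
  have hW₀iff : ∀ w : ι → K, w ∈ W₀ ↔
      (∀ i, polar Q₀ (e i) w = 0) ∧ (∀ i, polar Q₀ (f i) w = 0) := fun w =>
    mem_orthogonal_hypSpan_iff Q₀ e f w
  -- the binary form over `K` is anisotropic
  set a : K := Q₀ w₁ with ha
  set b : K := polar Q₀ w₁ w₂ with hb
  set c : K := Q₀ w₂ with hc
  have hbin₀ : ∀ x y : K, Q₀ (x • w₁ + y • w₂) = a * x ^ 2 + b * x * y + c * y ^ 2 := by
    intro x y
    rw [QuadraticMap.map_add Q₀, QuadraticMap.map_smul, QuadraticMap.map_smul, polar_smul_left,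
      polar_smul_right]
    simp only [smul_eq_mul]
    ring
  have haniso₀ : ∀ x y : K, a * x ^ 2 + b * x * y + c * y ^ 2 = 0 → x = 0 ∧ y = 0 := by
    intro x y hxy
    rw [← hbin₀] at hxy
    have hmem : x • w₁ + y • w₂ ∈ W₀ :=
      W₀.add_mem (W₀.smul_mem x hw₁W) (W₀.smul_mem y hw₂W)
    by_contra hne
    have hne0 : x • w₁ + y • w₂ ≠ 0 := fun h0 => hne (hindep x y h0)
    exact han _ ((hW₀iff _).1 hmem).1 ((hW₀iff _).1 hmem).2 hne0 hxy
  -- notation over `F`
  set mp : (ι → K) →ₗ[K] (ι → F) := helper64_mapL (K := K) (F := F) with hmp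
  set w₁' : ι → F := mp w₁ with hw₁'
  set w₂' : ι → F := mp w₂ with hw₂'
  have hbin : ∀ x y : F, Q (x • w₁' + y • w₂') =
      algebraMap K F a * x ^ 2 + algebraMap K F b * x * y + algebraMap K F c * y ^ 2 := by
    intro x y
    rw [QuadraticMap.map_add Q, QuadraticMap.map_smul, QuadraticMap.map_smul, polar_smul_left,
      polar_smul_right, hw₁', hw₂', helper64_Q_map Q₀ Q hB, helper64_Q_map Q₀ Q hB,
      helper64_polar_map Q₀ Q hB]
    simp only [smul_eq_mul]
    ring
  -- decomposition of the standard basis vectors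
  have hdec : ∀ j : ι, ∃ hj ∈ H₀, ∃ α β : K,
      (Pi.single j (1 : K) : ι → K) = hj + (α • w₁ + β • w₂) := by
    intro j
    have hj : (Pi.single j (1 : K) : ι → K) ∈ H₀ ⊔ W₀ := by rw [htop]; trivial
    obtain ⟨h1, hh1, w, hw, hsum⟩ := Submodule.mem_sup.1 hj
    obtain ⟨α, β, hαβ⟩ := hWmem w hw
    exact ⟨h1, hh1, α, β, by rw [← hsum, hαβ]⟩
  choose hj hhj α β hαβ using hdec
  -- `mp` of a standard basis vector
  have hsingle : ∀ j : ι, mp (Pi.single j (1 : K)) = (Pi.single j (1 : F) : ι → F) := by
    intro j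
    rw [hmp, helper64_mapL_apply]
    funext i
    by_cases hij : i = j
    · subst hij; simp
    · simp [hij]
  -- `mp` maps `H₀` into the span of the family over `F`
  set H : Submodule F (ι → F) := hypSpan (F := F) (fun i => mp (e i)) (fun i => mp (f i)) with hH
  have hmpH : ∀ u ∈ H₀, mp u ∈ H := by
    intro u hu
    obtain ⟨cf, rfl⟩ := (Submodule.mem_span_range_iff_exists_fun K).mp hu
    rw [map_sum]
    apply Submodule.sum_mem
    intro s _
    rw [map_smul, ← algebraMap_smul F (cf s) (mp (Sum.elim e f s))]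
    apply Submodule.smul_mem
    apply Submodule.subset_span
    refine ⟨s, ?_⟩
    rcases s with i | i <;> rfl
  -- the decomposition of `v`
  set x : F := ∑ j, v j * algebraMap K F (α j) with hx
  set y : F := ∑ j, v j * algebraMap K F (β j) with hy
  set h' : ι → F := ∑ j, v j • mp (hj j) with hh'
  have hvdec : v = h' + (x • w₁' + y • w₂') := by
    have h1 : v = ∑ j, v j • (Pi.single j (1 : F) : ι → F) := pi_eq_sum_univ' v
    have h2 : ∀ j, v j • (Pi.single j (1 : F) : ι → F) =
        v j • mp (hj j) + ((v j * algebraMap K F (α j)) • w₁' + (v j * algebraMap K F (β j)) • w₂') := by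
      intro j
      rw [← hsingle j, hαβ j, map_add, map_add, map_smul, map_smul,
        ← algebraMap_smul F (α j) (mp w₁), ← algebraMap_smul F (β j) (mp w₂), smul_add, smul_add,
        smul_smul, smul_smul]
    rw [hx, hy, hh', Finset.sum_smul, Finset.sum_smul, ← Finset.sum_add_distrib,
      ← Finset.sum_add_distrib]
    conv_lhs => rw [h1]
    exact Finset.sum_congr rfl (fun j _ => h2 j)
  have hh'H : h' ∈ H := by
    rw [hh']
    apply Submodule.sum_mem
    intro j _
    exact Submodule.smul_mem _ _ (hmpH _ (hhj j))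
  -- `w₁'`, `w₂'` are orthogonal to the family
  have hw₁e : ∀ i, polar Q (mp (e i)) w₁' = 0 := fun i => by
    rw [hw₁', helper64_polar_map Q₀ Q hB, ((hW₀iff _).1 hw₁W).1 i, map_zero]
  have hw₁f : ∀ i, polar Q (mp (f i)) w₁' = 0 := fun i => by
    rw [hw₁', helper64_polar_map Q₀ Q hB, ((hW₀iff _).1 hw₁W).2 i, map_zero]
  have hw₂e : ∀ i, polar Q (mp (e i)) w₂' = 0 := fun i => by
    rw [hw₂', helper64_polar_map Q₀ Q hB, ((hW₀iff _).1 hw₂W).1 i, map_zero]
  have hw₂f : ∀ i, polar Q (mp (f i)) w₂' = 0 := fun i => by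
    rw [hw₂', helper64_polar_map Q₀ Q hB, ((hW₀iff _).1 hw₂W).2 i, map_zero]
  have hh'eq : h' = v - (x • w₁' + y • w₂') := by rw [hvdec]; abel
  have hh'W : h' ∈ LinearMap.BilinForm.orthogonal (polarBilin Q) H := by
    rw [hH, mem_orthogonal_hypSpan_iff]
    constructor
    · intro i
      rw [hh'eq, polar_sub_right, polar_add_right, polar_smul_right, polar_smul_right, hw₁e, hw₂e]
      have := hve i
      simp only [smul_zero, add_zero, sub_zero]
      exact this
    · intro i
      rw [hh'eq, polar_sub_right, polar_add_right, polar_smul_right, polar_smul_right, hw₁f, hw₂f]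
      have := hvf i
      simp only [smul_zero, add_zero, sub_zero]
      exact this
  have hh'0 : h' = 0 := by
    have hd := hef'.disjoint
    rw [Submodule.disjoint_def] at hd
    exact hd h' hh'H hh'W
  rw [hh'0, zero_add] at hvdec
  rw [hvdec, hbin] at hQv
  obtain ⟨hx0, hy0⟩ := helper64_binary_aniso_odd hodd a b c haniso₀ x y hQv
  apply hv0
  rw [hvdec, hx0, hy0]
  simp

end Cfsg.Agent.Helper40.OEV.C4
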